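import Cfsg.Agent.ODD.Lev.Ind
import Cfsg.Agent.ODD.AH.Main
import Cfsg.Agent.ODD.Hk.Par
import Cfsg.Agent.H684.OQ.Whit
import Cfsg.Agent.H684.OQ.CellCard

/-!
# ODD, box LEV: `rata : HOA → RATA` (helper97)
-/

set_option autoImplicit false
set_option linter.unusedSectionVars false

namespace Cfsg.Agent.ODD.Lev

open Cfsg Module CoxeterSystem Cfsg.Agent.ChevalleyStructure.CoxeterGeom Cfsg.Agent.Tits.Roots Cfsg.Agent.Tits.Core
  Cfsg.Agent.Tits.Exchange Cfsg.Agent.Nodes.Reps Cfsg.Agent.Nodes.BNOf Cfsg.Agent.Nodes.StabComb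
  Cfsg.Agent.Nodes.Bruhat Cfsg.Agent.Nodes.LeviDec Cfsg.Agent.H381.OQ Cfsg.Agent.H684.OQ Cfsg.Agent.H53.HC
  Cfsg.Agent.Characters Cfsg.Agent.ODD.AH Cfsg.Agent.ODD.Hk

section emb

variable {Y : Type} [Group Y] (P : Subgroup Y)

/-- the group algebra of a subgroup inside the group algebra -/
noncomputable def emb : Al P →ₐ[ℂ] Al Y := MonoidAlgebra.mapDomainAlgHom ℂ ℂ P.subtype

theorem emb_dl (g : P) : emb P (dl g) = dl (g : Y) := by
  simp [emb, dl]

theorem emb_injective : Function.Injective (emb P) :=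
  MonoidAlgebra.mapDomain_injective (R := ℂ) P.subtype_injective

variable {P} [Finite Y]

theorem emb_av {B : Subgroup Y} (hB : B ≤ P) : emb P (av (1 : B.subgroupOf P →* ℂˣ)) = av (1 : B →* ℂˣ) := by
  have := Fintype.ofFinite B
  have := Fintype.ofFinite (B.subgroupOf P)
  rw [av_def, av_def, map_smul, map_sum, Nat.card_congr (Subgroup.subgroupOfEquivOfLe hB).toEquiv]
  congr 1
  refine Fintype.sum_equiv (Subgroup.subgroupOfEquivOfLe hB).toEquiv _ _ fun u => ?_
  rw [map_smul, emb_dl]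
  rfl

theorem tw_av (s : ℂ ≃+* ℂ) (B : Subgroup Y) : tw s (MulEquiv.refl Y) (av (1 : B →* ℂˣ)) = av (1 : B →* ℂˣ) := by
  have := Fintype.ofFinite B
  rw [av_def, tw_smul, map_sum, map_inv₀, map_natCast]
  congr 1
  refine Finset.sum_congr rfl fun u _ => ?_
  rw [MonoidHom.one_apply, inv_one, Units.val_one, one_smul, tw_dl]
  rfl

end emb

theorem quad_of {V : Type} [AddCommGroup V] [Module ℂ V] {x : End ℂ V} {q : ℂ} (hq : q ≠ 0)
    (hx : x * x = q⁻¹ • (1 + (q - 1) • x)) : (q • x - q • (1 : End ℂ V)) * (q • x + 1) = 0 := by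
  rw [sub_mul, mul_add, mul_add, smul_mul_smul_comm, hx, smul_smul, mul_inv_cancel_right₀ hq, smul_mul_smul_comm,
    one_mul, mul_one, mul_one]
  module

variable {I W Y : Type} [Fintype I] [DecidableEq I] [Group W] [Finite W] [Group Y] [Finite Y]
  {M : CoxeterMatrix I} {cs : CoxeterSystem M W} {A : I → I → ℤ} {h : IsCartan M A} {p : ℕ} {T : Subgroup Y}
  {n : I → Y} {X : (I → ℤ) → Subgroup Y} (R : RGD cs h p T n X)

include R

theorem eB_one : eB R 1 = av (1 : RGD.B cs h T X →* ℂˣ) := rfl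

theorem ta_t_eB {t : Y} (ht : t ∈ T) : ta cs h X t * eB R 1 = eB R 1 := by
  rw [ta_t R ht, mul_assoc, eU_mul_eB, t_mul_eB R 1 ht, MonoidHom.one_apply, Units.val_one, one_smul]

theorem eB_ta_eB {w : W} {k : Y} (hk : Rp cs R.nsys w k) :
    eB R 1 * (ta cs h X k * eB R 1) = ta cs h X k * eB R 1 := by
  refine eB_mul_eq R 1 (by rw [← mul_assoc, eU_mul_ta]) fun t ht => ?_
  have ht' : k⁻¹ * t * k ∈ T := by
    have := (Subgroup.mem_normalizer_iff.1 (inv_mem hk.mem_normalizer) t).1 ht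
    rwa [inv_inv] at this
  have e1 : t * k = k * (k⁻¹ * t * k) := by group
  rw [MonoidHom.one_apply, Units.val_one, one_smul, ← eU_mul_ta, ← mul_assoc, ← mul_assoc, ← ta_t R ht, ← ta_t_mul R ht,
    e1, ta_mul_t R ht', mul_assoc, ta_t_eB R ht', eU_mul_ta]

theorem eB_dl_eB {w : W} {k : Y} (hk : Rp cs R.nsys w k) : eB R 1 * dl k * eB R 1 = ta cs h X k * eB R 1 := by
  rw [← eB_ta_eB R hk]
  unfold ta
  rw [mul_assoc _ (eU cs h X), eU_mul_eB, ← mul_assoc, ← mul_assoc, eB_mul_eU]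

theorem hk_mul {i : I} {w : W} {k : Y} (hk : Rp cs R.nsys w k) (hl : cs.length w < cs.length (cs.simple i * w)) :
    eB R 1 * dl (n i) * eB R 1 * (eB R 1 * dl k * eB R 1) = eB R 1 * dl (n i * k) * eB R 1 := by
  rw [eB_dl_eB R (rp_simple cs R.nsys i), eB_dl_eB R hk, eB_dl_eB R ((rp_simple cs R.nsys i).mul hk), mul_assoc,
    eB_ta_eB R hk, ← mul_assoc, ta_n_mul R hk hl]

theorem hk_sq (i : I) : eB R 1 * dl (n i) * eB R 1 * (eB R 1 * dl (n i) * eB R 1) =
    (Nat.card (X (sr i)) : ℂ)⁻¹ • (eB R 1 + ((Nat.card (X (sr i)) : ℂ) - 1) • (eB R 1 * dl (n i) * eB R 1)) := by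
  classical
  have := Fintype.ofFinite (X (sr i))
  have hn := rp_simple cs R.nsys i
  have hz : n i * n i ∈ T := R.sq_mem_T i
  rw [eB_dl_eB R hn, mul_assoc, eB_ta_eB R hn, ← mul_assoc, ta_sq R i, smul_mul_assoc, Finset.sum_mul,
    ← Finset.add_sum_erase _ _ (Finset.mem_univ 1), if_pos rfl, ta_t_eB R hz]
  congr 2
  have h1 : ∀ x ∈ Finset.univ.erase (1 : X (sr i)), (if x = 1 then ta cs h X (n i * n i) else
      ta cs h X (tx R i x) * ta cs h X (n i) * ta cs h X (n i * n i)) * eB R 1 = ta cs h X (n i) * eB R 1 := by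
    intro x hx
    rw [if_neg (Finset.mem_erase.1 hx).1, mul_assoc, ta_t_eB R hz, mul_assoc, ← eB_ta_eB R hn, ← mul_assoc,
      ta_t_eB R (tx_mem R i x)]
  rw [Finset.sum_congr rfl h1, Finset.sum_const, Finset.card_erase_of_mem (Finset.mem_univ _), Finset.card_univ,
    ← Nat.card_eq_fintype_card, ← Nat.cast_smul_eq_nsmul ℂ, Nat.cast_sub Nat.card_pos, Nat.cast_one]

theorem map_qc (s : ℂ ≃+* ℂ) (w : W) : s (qc R w) = qc R w := by
  unfold qc
  rw [map_div₀, map_natCast, map_natCast]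

omit R in
/-- **The constituents of `1_B^(P_J)` are rational for `J` of type `A × ⋯ × A`.** -/
theorem rata (hA : HOA) : RATA := by
  intro I W Y _ _ _ _ _ _ M cs A h p T n X R J hJ hBP χ hχ h0 s g
  let P := PJ cs h T X J
  obtain ⟨e, hed⟩ : ∃ e : Al P, e = av (1 : (RGD.B cs h T X).subgroupOf P →* ℂˣ) := ⟨_, rfl⟩
  have he : e * e = e := by rw [hed, av_mul_av]
  have hee : emb P e = eB R 1 := by rw [hed, emb_av hBP, eB_one]
  have hb : ∀ b (hb : b ∈ RGD.B cs h T X), e * dl ⟨b, hBP hb⟩ = e ∧ dl ⟨b, hBP hb⟩ * e = e := fun b hb => by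
    have h1 := av_mul_dl (1 : (RGD.B cs h T X).subgroupOf P →* ℂˣ) ⟨⟨b, hBP hb⟩, hb⟩
    have h2 := dl_mul_av (1 : (RGD.B cs h T X).subgroupOf P →* ℂˣ) ⟨⟨b, hBP hb⟩, hb⟩
    rw [MonoidHom.one_apply, Units.val_one, one_smul, ← hed] at h1 h2
    exact ⟨h1, h2⟩
  choose k hk using fun w : WJ cs J => exists_rp cs R.nsys (w : W)
  have hkP : ∀ w, k w ∈ P := fun w => LJ_le_PJ (rp_mem_LJ R w.2 (hk w))
  obtain ⟨t, htd⟩ : ∃ t : WJ cs J → Al P, ∀ w, t w = e * dl ⟨k w, hkP w⟩ * e := ⟨_, fun _ => rfl⟩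
  have ht : ∀ (w : WJ cs J) c (hc : c ∈ P), Rp cs R.nsys w c → e * dl ⟨c, hc⟩ * e = t w := fun w c hc hw => by
    have h1 := (hk w).unique hw
    have e1 : (⟨c, hc⟩ : P) = ⟨k w, hkP w⟩ * ⟨_, hBP (RGD.T_le_B h1)⟩ := Subtype.ext (mul_inv_cancel_left _ _).symm
    rw [e1, dl_mul, ← mul_assoc, mul_assoc _ _ e, (hb _ (RGD.T_le_B h1)).2, htd]
  have hx : ∀ x : P, ∃ w, e * dl x * e = t w := fun x => by
    obtain ⟨w, hw, b₁, hb₁, c, hc, b₂, hb₂, e1⟩ := (mem_PJ_iff_cell R).1 x.2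
    have hcP : c ∈ P := LJ_le_PJ (rp_mem_LJ R hw hc)
    have e2 : x = ⟨b₁, hBP hb₁⟩ * ⟨c, hcP⟩ * ⟨b₂, hBP hb₂⟩ := Subtype.ext e1
    refine ⟨⟨w, hw⟩, ?_⟩
    rw [← ht ⟨w, hw⟩ c hcP hc, e2, dl_mul, dl_mul, ← mul_assoc, ← mul_assoc, (hb _ hb₁).1, mul_assoc _ _ e, (hb _ hb₂).2]
  have het : ∀ w, e * t w = t w := fun w => by rw [htd, ← mul_assoc, ← mul_assoc, he]
  have hte : ∀ w, t w * e = t w := fun w => by rw [htd, mul_assoc, he]
  have hsi : ∀ j : J, emb P (t ((csJ cs J).simple j)) = eB R 1 * dl (n j) * eB R 1 := fun j => by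
    rw [← ht _ (n j) (LJ_le_PJ (n_mem_LJ R j.2)) (by rw [csJ_simple]; exact rp_simple cs R.nsys j), map_mul, map_mul,
      hee, emb_dl]
  have hm0 : lin χ e ≠ 0 := by
    have := Fintype.ofFinite (RGD.B cs h T X)
    have := Fintype.ofFinite ((RGD.B cs h T X).subgroupOf P)
    rw [finsum_eq_sum_of_fintype] at h0
    rw [hed, av_def, map_smul, map_sum, smul_eq_mul]
    refine mul_ne_zero (inv_ne_zero (card_ne _)) fun h1 => h0 (Eq.trans ?_ h1)
    refine (Fintype.sum_equiv (Subgroup.subgroupOfEquivOfLe hBP).toEquiv _ _ fun u => ?_).symm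
    rw [MonoidHom.one_apply, inv_one, Units.val_one, one_smul, lin_dl]
    rfl
  have hfix : ∀ (s : ℂ ≃+* ℂ) w, s (lin χ (t w)) = lin χ (t w) := by
    obtain ⟨m, ρ, hρ, rfl⟩ := hχ
    obtain ⟨V, r, h1, -, h3, h4⟩ := exists_crn ρ hρ he
    intro s w
    have h5 := hA J (WJ cs J) V (MJ M J) (csJ cs J) (fun w => qc R (w : W) • r (t w))
      (fun j => (Nat.card (X (sr (j : I))) : ℚ))
      ⟨fun i _ j _ => hJ.1 i i.2 j j.2, fun i _ a _ b _ c _ ha hb hc =>
        (hJ.2 i i.2 a a.2 b b.2 c c.2 ha hb hc).imp Subtype.ext (Or.imp Subtype.ext Subtype.ext)⟩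
      (fun j => by exact_mod_cast Nat.card_pos) ?_ (fun j w hl => ?_) (fun j => ?_)
      (fun U hU => irr_of_all fun f v hv => ?_) s w
    · rw [map_smul, h3, hte, smul_eq_mul, map_mul, map_qc] at h5
      exact mul_left_cancel₀ (qc_ne R _) h5
    · show qc R 1 • r (t 1) = 1
      rw [qc_one, one_smul, ← ht 1 1 (one_mem _) rp_one, show (⟨1, one_mem _⟩ : P) = 1 from rfl, dl_one, mul_one, he,
        h1.one]
    · rw [csJ_length, csJ_length, Subgroup.coe_mul, csJ_simple] at hl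
      show qc R _ • r _ * qc R _ • r _ = qc R _ • r _
      have h7 : Rp cs R.nsys (((csJ cs J).simple j * w : WJ cs J) : W) (n j * k w) := by
        rw [Subgroup.coe_mul, csJ_simple]
        exact (rp_simple cs R.nsys j).mul (hk w)
      have h6 : t ((csJ cs J).simple j) * t w = t ((csJ cs J).simple j * w) := emb_injective P (by
        rw [map_mul, hsi, ← ht ((csJ cs J).simple j * w) (n j * k w) (mul_mem (LJ_le_PJ (n_mem_LJ R j.2)) (hkP w)) h7,
          htd, map_mul, map_mul, map_mul, map_mul, hee, emb_dl, emb_dl]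
        exact hk_mul R (hk w) hl)
      rw [smul_mul_smul_comm, ← h1.mul _ _ (het w), h6, Subgroup.coe_mul, csJ_simple, qc_mul_simple R hl, qc_simple]
    · show (qc R _ • r _ - _) * (qc R _ • r _ + 1) = 0
      have hq : (Nat.card (X (sr (j : I))) : ℂ) ≠ 0 := card_ne _
      have h6 : t ((csJ cs J).simple j) * t ((csJ cs J).simple j) = (Nat.card (X (sr (j : I))) : ℂ)⁻¹ •
          (e + ((Nat.card (X (sr (j : I))) : ℂ) - 1) • t ((csJ cs J).simple j)) := emb_injective P (by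
        rw [map_mul, map_smul, map_add, map_smul, hsi, hee]
        exact hk_sq R j)
      have h7 := congrArg r h6
      rw [h1.mul _ _ (het _), map_smul, map_add, map_smul, h1.one] at h7
      rw [csJ_simple, qc_simple, Rat.cast_natCast]
      exact quad_of hq h7
    · obtain ⟨x, rfl⟩ := h4 f
      induction x using al_induction with
      | hd x =>
        obtain ⟨w, hw⟩ := hx x
        have h6 := U.smul_mem (qc R (w : W))⁻¹ (hU w v hv)
        rwa [LinearMap.smul_apply, smul_smul, inv_mul_cancel₀ (qc_ne R _), one_smul, ← hw] at h6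
      | ha a b ha hb =>
        rw [mul_add, add_mul, map_add, LinearMap.add_apply]
        exact add_mem ha hb
      | hs c a ha =>
        rw [mul_smul_comm, smul_mul_assoc, map_smul, LinearMap.smul_apply]
        exact U.smul_mem c ha
  have hχ' := Characters.GaloisIrr.isIrr_map s.symm hχ
  have key := eq_of_corner hχ hχ' he hm0 fun x => by
    induction x using al_induction with
    | hd x =>
      obtain ⟨w, hw⟩ := hx x
      have h1 := lin_tw s (MulEquiv.refl P) χ (e * dl x * e)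
      have h2 : tw s (MulEquiv.refl P) e = e := by rw [hed, tw_av]
      rw [map_mul (tw s _), map_mul (tw s _), h2, tw_dl, MulEquiv.refl_apply] at h1
      apply s.injective
      refine h1.symm.trans ?_
      show lin χ (e * dl x * e) = s (lin χ (e * dl x * e))
      rw [hw, hfix]
    | ha a b ha hb => rw [mul_add, add_mul, map_add, map_add, ha, hb]
    | hs c a ha => rw [mul_smul_comm, smul_mul_assoc, map_smul, map_smul, ha]
  conv_lhs => rw [← congrFun key g]
  exact s.apply_symm_apply _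

end Cfsg.Agent.ODD.Lev
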