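import Cfsg.Agent.ODD.Lev.Lev
import Cfsg.Agent.ODD.Lev.Rat
import Cfsg.Agent.ODD.Hk.Main

/-!
# ODD, box LEV (helper97): `lev : LEV`, `levq : LEVQ`, `ratA : RATA`, all unconditional
-/

set_option autoImplicit false

namespace Cfsg.Agent.ODD.Lev

/-- the constituents of `1_B^(P_J)` are rational if `J` is of type `A × ⋯ × A` -/
theorem ratA : RATA := rata Hk.hoa

end Cfsg.Agent.ODD.Lev
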