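import Cfsg.Agent.ODD.Lev.Ind
import Cfsg.Agent.H684.OQ.Wt

/-!
# ODD, box LEV: weight vectors (helper97)

`Wt ρ ν v`: `v` is fixed by `U` and has the weight `ν`.  `N` is a proper `P_J`-invariant subspace.

* `exists_wt`: if `V_J` acts trivially on `V / N` there is a weight vector outside `N`, of a conjugate weight;
* `move`: the weight can be moved by `W_J`.
-/

set_option autoImplicit false
set_option linter.unusedSectionVars false

namespace Cfsg.Agent.ODD.Lev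

open Cfsg Module CoxeterSystem Cfsg.Agent.ChevalleyStructure.CoxeterGeom Cfsg.Agent.Tits.Roots Cfsg.Agent.Tits.Core
  Cfsg.Agent.Tits.Exchange Cfsg.Agent.Nodes.Reps Cfsg.Agent.Nodes.BNOf Cfsg.Agent.Nodes.StabComb
  Cfsg.Agent.Nodes.Bruhat Cfsg.Agent.Nodes.LeviDec Cfsg.Agent.H381.OQ Cfsg.Agent.H684.OQ Cfsg.Agent.H53.HC

variable {I W Y : Type} [Fintype I] [DecidableEq I] [Group W] [Finite W] [Group Y] [Finite Y]
  {M : CoxeterMatrix I} {cs : CoxeterSystem M W} {A : I → I → ℤ} {h : IsCartan M A} {p : ℕ} {T : Subgroup Y}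
  {n : I → Y} {X : (I → ℤ) → Subgroup Y} {V : Type} [AddCommGroup V] [Module ℂ V] {ρ : Representation ℂ Y V}

/-- weight vectors -/
def Wt (cs : CoxeterSystem M W) (h : IsCartan M A) (X : (I → ℤ) → Subgroup Y) (ρ : Representation ℂ Y V)
    (ν : ↥T →* ℂˣ) (v : V) : Prop :=
  (∀ u ∈ UU cs h X, ρ u v = v) ∧ ∀ t (ht : t ∈ T), ρ t v = ((ν ⟨t, ht⟩ : ℂˣ) : ℂ) • v

theorem rho_mul (a b : Y) (v : V) : ρ a (ρ b v) = ρ (a * b) v := by rw [map_mul, End.mul_apply]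

theorem eU_fix {v : V} (hv : ∀ u ∈ UU cs h X, ρ u v = v) : ρ.asAlgebraHom (eU cs h X) v = v :=
  av_eq _ fun u => by rw [hv u u.2, MonoidHom.one_apply, Units.val_one, one_smul]

theorem fix_eU {u : Y} (hu : u ∈ UU cs h X) (v : V) :
    ρ u (ρ.asAlgebraHom (eU cs h X) v) = ρ.asAlgebraHom (eU cs h X) v := by
  have := apply_av (σ := ρ) (1 : UU cs h X →* ℂˣ) ⟨u, hu⟩ v
  rwa [MonoidHom.one_apply, Units.val_one, one_smul] at this

theorem ta_apply (g : Y) (v : V) : ρ.asAlgebraHom (ta cs h X g) v =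
    ρ.asAlgebraHom (eU cs h X) (ρ g (ρ.asAlgebraHom (eU cs h X) v)) := by
  unfold ta
  rw [map_mul, map_mul, alg_dl, End.mul_apply, End.mul_apply]

theorem conj_mem_T {hN : NSys M T n} {w : W} {k t : Y} (hk : Rp cs hN w k) (ht : t ∈ T) : k⁻¹ * t * k ∈ T := by
  have := (Subgroup.mem_normalizer_iff.1 (inv_mem hk.mem_normalizer) t).1 ht
  rwa [inv_inv] at this

theorem cj_cjl {hN : NSys M T n} {w : W} {k : Y} (hk : Rp cs hN w k) (ν : ↥T →* ℂˣ) :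
    Cj T (cjl hk.mem_normalizer ν) ν k := fun _ _ _ => rfl

variable (R : RGD cs h p T n X)

include R

theorem Wt.infl {ν : ↥T →* ℂˣ} {v : V} (hv : Wt cs h X ρ ν v) (b : RGD.B cs h T X) :
    ρ b v = ((infl R ν b : ℂˣ) : ℂ) • v := by
  obtain ⟨t, ht, u, hu, e⟩ := R.mem_B.1 b.2
  have e1 : b = ⟨t, RGD.T_le_B ht⟩ * ⟨u, RGD.U_le_B hu⟩ := Subtype.ext e
  rw [e, ← rho_mul, hv.1 u hu, hv.2 t ht, e1, map_mul, infl_T R ν ht, infl_U R ν hu, mul_one]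

theorem wt_of_infl {ν : ↥T →* ℂˣ} {v : V} (hv : ∀ b : RGD.B cs h T X, ρ b v = ((infl R ν b : ℂˣ) : ℂ) • v) :
    Wt cs h X ρ ν v := by
  refine ⟨fun u hu => ?_, fun t ht => ?_⟩
  · have h1 := hv ⟨u, RGD.U_le_B hu⟩
    rwa [infl_U R ν hu, Units.val_one, one_smul] at h1
  · have h1 := hv ⟨t, RGD.T_le_B ht⟩
    rwa [infl_T R ν ht] at h1

/-- the weight of `e_U k v` -/
theorem Wt.rp {ν ν' : ↥T →* ℂˣ} {v : V} (hv : Wt cs h X ρ ν v) {w : W} {k : Y} (hk : Rp cs R.nsys w k)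
    (hc : Cj T ν' ν k) : Wt cs h X ρ ν' (ρ.asAlgebraHom (eU cs h X) (ρ k v)) := by
  refine ⟨fun u hu => fix_eU hu _, fun t ht => ?_⟩
  have e1 : t * k = k * (k⁻¹ * t * k) := by group
  rw [← alg_dl ρ t, ← End.mul_apply, ← map_mul, dl_t_comm_eU R ht, map_mul, End.mul_apply, alg_dl, rho_mul, e1,
    ← rho_mul, hv.2 _ (conj_mem_T hk ht), map_smul, map_smul, hc t ht (conj_mem_T hk ht)]

/-- representatives which are minimal on the left -/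
theorem exists_left_min (hG : GG cs h T X = ⊤) (J : Set I) (x : Y) :
    ∃ a ∈ PJ cs h T X J, ∃ b ∈ RGD.B cs h T X, ∃ w k, Rp cs R.nsys w k ∧ x = a * k * b ∧
      ∀ i ∈ J, 0 ≤ rep cs h w⁻¹ (sr i) := by
  classical
  have hex : ∃ m : ℕ, ∃ w, cs.length w = m ∧ ∃ a ∈ PJ cs h T X J, ∃ b ∈ RGD.B cs h T X, ∃ g,
      Rp cs R.nsys w g ∧ x = a * g * b := by
    obtain ⟨w, b₁, hb₁, k, hk, b₂, hb₂, e⟩ := (mem_GG R).1 (show x ∈ GG cs h T X by rw [hG]; exact Subgroup.mem_top x)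
    exact ⟨_, w, rfl, b₁, B_le_PJ hb₁, b₂, hb₂, k, hk, e⟩
  obtain ⟨w, hw, a, ha, b, hb, g, hg, e⟩ := Nat.find_spec hex
  refine ⟨a, ha, b, hb, w, g, hg, e, fun i hi => nonneg_of_lt cs h w⁻¹ i ?_⟩
  rw [cs.length_inv, ← cs.length_inv (w⁻¹ * cs.simple i), mul_inv_rev, inv_inv, cs.inv_simple]
  have h1 : cs.length w ≤ cs.length (cs.simple i * w) := by
    rw [hw]
    by_contra hcon
    exact Nat.find_min hex (not_le.1 hcon) ⟨_, rfl, a * (n i)⁻¹, mul_mem ha (inv_mem (LJ_le_PJ (n_mem_LJ R hi))), b, hb,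
      n i * g, (rp_simple cs R.nsys i).mul hg, by rw [e]; group⟩
  have h2 := cs.length_simple_mul w i
  omega

/-- **Weight vectors outside an invariant subspace.** -/
theorem exists_wt (hG : GG cs h T X = ⊤) (hρ : ρ.IsIrreducible) {lam : ↥T →* ℂˣ} {v₀ : V} (h0 : v₀ ≠ 0)
    (hv : Wt cs h X ρ lam v₀) {J : Set I} {N : Submodule ℂ V} (hN : N ≠ ⊤)
    (hP : ∀ a ∈ PJ cs h T X J, ∀ y ∈ N, ρ a y ∈ N) (hQ : ∀ q ∈ VJ cs h X J, ∀ y, ρ q y - y ∈ N) :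
    ∃ k ∈ NN cs R.nsys, ∃ (ν : ↥T →* ℂˣ) (v : V), Cj T ν lam k ∧ Wt cs h X ρ ν v ∧ v ∉ N := by
  obtain ⟨x, hx⟩ : ∃ x, ρ x v₀ ∉ N := by
    by_contra hcon
    push Not at hcon
    exact hN (eq_top_of_orbit hρ h0 hcon)
  obtain ⟨a, ha, b, hb, w, k, hk, rfl, hw⟩ := exists_left_min R hG J x
  have h1 : ρ k v₀ ∉ N := fun h1 => hx (by
    rw [← rho_mul, ← rho_mul, hv.infl R ⟨b, hb⟩, map_smul, map_smul]
    exact N.smul_mem _ (hP a ha _ h1))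
  refine ⟨k, ⟨w, hk⟩, _, _, cj_cjl hk lam, hv.rp R hk (cj_cjl hk lam), fun h2 => h1 ?_⟩
  have h3 : ∀ u ∈ UU cs h X, ρ u (ρ k v₀) - ρ k v₀ ∈ N := by
    intro u hu
    obtain ⟨c, hc, q, hq, rfl⟩ := (mem_U_iff R (J := J)).1 hu
    have hc' : k⁻¹ * c * k ∈ UU cs h X := conj_mem_Sup' R hk (S := PosJ cs h J) (S' := RGD.Pos cs h) (fun x hx => hx.1)
      (fun x hx => ⟨hx.1.act _, rep_nonneg_of_supp hw hx.2.1 hx.2.2⟩) hc
    have hq' : c * q * c⁻¹ ∈ VJ cs h X J :=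
      (Subgroup.mem_normalizer_iff.1 (LJ_le_normalizer_VJ R J (BJ_le_LJ (UJ_le_BJ hc))) q).1 hq
    have e1 : c * q * k = c * q * c⁻¹ * (k * (k⁻¹ * c * k)) := by group
    rw [rho_mul, e1, ← rho_mul, ← rho_mul k, hv.1 _ hc']
    exact hQ _ hq' _
  have := Fintype.ofFinite (UU cs h X)
  have h4 : ρ.asAlgebraHom (eU cs h X) (ρ k v₀) - ρ k v₀ =
      (Nat.card (UU cs h X) : ℂ)⁻¹ • ∑ u : UU cs h X, (ρ u (ρ k v₀) - ρ k v₀) := by
    unfold eU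
    rw [av_apply, Finset.sum_sub_distrib, smul_sub, Finset.sum_const, Finset.card_univ, ← Nat.card_eq_fintype_card,
      ← Nat.cast_smul_eq_nsmul ℂ, smul_smul, inv_mul_cancel₀ (card_ne _), one_smul]
    simp only [MonoidHom.one_apply, inv_one, Units.val_one, one_smul]
  have h5 : ρ.asAlgebraHom (eU cs h X) (ρ k v₀) - ρ k v₀ ∈ N := by
    rw [h4]
    exact N.smul_mem _ (N.sum_mem fun u _ => h3 u u.2)
  have h6 := N.sub_mem h2 h5
  rwa [sub_sub_cancel] at h6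

/-- one step -/
theorem move_simple {J : Set I} {N : Submodule ℂ V} (hP : ∀ a ∈ PJ cs h T X J, ∀ y ∈ N, ρ a y ∈ N) {i : I} (hi : i ∈ J)
    {ν : ↥T →* ℂˣ} {v : V} (hv : Wt cs h X ρ ν v) (h0 : v ∉ N) : ρ.asAlgebraHom (eU cs h X) (ρ (n i) v) ∉ N := by
  classical
  intro h1
  have := Fintype.ofFinite (X (sr i))
  have hU : ∀ y ∈ N, ρ.asAlgebraHom (eU cs h X) y ∈ N := fun y hy =>
    av_mem _ fun u hu => hP u (B_le_PJ (RGD.U_le_B hu)) y hy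
  have hta : ∀ g ∈ PJ cs h T X J, ∀ y ∈ N, ρ.asAlgebraHom (ta cs h X g) y ∈ N := fun g hg y hy => by
    rw [ta_apply]
    exact hU _ (hP g hg _ (hU y hy))
  have h2 : ρ.asAlgebraHom (ta cs h X (n i)) v ∈ N := by rwa [ta_apply, eU_fix hv.1]
  have hz : n i * n i ∈ T := R.sq_mem_T i
  have h3 : ρ.asAlgebraHom (ta cs h X (n i * n i)) v = ((ν ⟨_, hz⟩ : ℂˣ) : ℂ) • v := by
    rw [ta_apply, eU_fix hv.1, hv.2 _ hz, map_smul, eU_fix hv.1]
  have h4 := hta _ (LJ_le_PJ (n_mem_LJ R hi)) _ h2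
  rw [← End.mul_apply, ← map_mul, ta_sq R i, map_smul, LinearMap.smul_apply,
    N.smul_mem_iff (inv_ne_zero (card_ne _)), map_sum, LinearMap.sum_apply,
    ← Finset.add_sum_erase _ _ (Finset.mem_univ 1), if_pos rfl, h3, N.add_mem_iff_left, N.smul_mem_iff (Units.ne_zero _)]
    at h4
  · exact h0 h4
  · refine N.sum_mem fun x hx => ?_
    rw [if_neg (Finset.mem_erase.1 hx).1, map_mul, map_mul, End.mul_apply, End.mul_apply, h3, map_smul, map_smul]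
    exact N.smul_mem _ (hta _ (LJ_le_PJ (T_le_LJ (tx_mem R i x))) _ h2)

/-- **Moving the weight by `W_J`.** -/
theorem move {J : Set I} {N : Submodule ℂ V} (hP : ∀ a ∈ PJ cs h T X J, ∀ y ∈ N, ρ a y ∈ N)
    {ν : ↥T →* ℂˣ} {v : V} (hv : Wt cs h X ρ ν v) (h0 : v ∉ N) {a : Y} (ha : a ∈ NN cs R.nsys)
    (haP : a ∈ PJ cs h T X J) {ν' : ↥T →* ℂˣ} (hc : Cj T ν' ν a) : ∃ v', Wt cs h X ρ ν' v' ∧ v' ∉ N := by
  obtain ⟨w, hw⟩ := ha
  obtain ⟨ω, hω, rfl⟩ := exists_word_of_mem_WJ cs ((cell_mem_PJ_iff R (cell_of_rp hw)).1 haP)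
  clear haP
  induction ω generalizing a ν' with
  | nil =>
    rw [wordProd_nil] at hw
    have ha := hw.mem_of_one
    have h1 : ν' = ν := by
      ext t
      rw [hc t t.2 (conj_mem_T hw t.2)]
      have e1 : (⟨a⁻¹ * t * a, conj_mem_T hw t.2⟩ : T) = (⟨a, ha⟩ : T)⁻¹ * t * ⟨a, ha⟩ := rfl
      rw [e1, map_mul, map_mul, map_inv, mul_right_comm, inv_mul_cancel, one_mul]
    exact ⟨v, h1 ▸ hv, h0⟩
  | cons i ω ih =>
    have hk : Rp cs R.nsys (cs.wordProd ω) ((n i)⁻¹ * a) := by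
      have h1 := (rp_simple cs R.nsys i).inv.mul hw
      rwa [wordProd_cons, inv_mul_cancel_left] at h1
    obtain ⟨v', h1, h2⟩ := ih (cj_cjl hk ν) (fun j hj => hω j (List.mem_cons_of_mem _ hj)) hk
    refine ⟨_, h1.rp R (rp_simple cs R.nsys i) fun t ht ht' => ?_, move_simple R hP (hω i List.mem_cons_self) h1 h2⟩
    rw [hc t ht (conj_mem_T hw ht), cjl_apply _ _ ht' (conj_mem_T hk ht')]
    congr 2
    group

end Cfsg.Agent.ODD.Lev
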