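import Cfsg.Agent.ODD.Lev.Gen
import Cfsg.Agent.CharactersDeep.ExtUnique

/-!
# ODD, box LEV: `lev : LEV`, `levq : LEVQ` (helper97)
-/

set_option autoImplicit false
set_option linter.unusedSectionVars false

namespace Cfsg.Agent.ODD.Lev

open Cfsg Module CoxeterSystem Cfsg.Agent.ChevalleyStructure.CoxeterGeom Cfsg.Agent.Tits.Roots Cfsg.Agent.Tits.Core
  Cfsg.Agent.Tits.Exchange Cfsg.Agent.Nodes.Reps Cfsg.Agent.Nodes.BNOf Cfsg.Agent.Nodes.StabComb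
  Cfsg.Agent.Nodes.Bruhat Cfsg.Agent.Nodes.LeviDec Cfsg.Agent.H381.OQ Cfsg.Agent.H684.OQ Cfsg.Agent.H53.HC
  Cfsg.Agent.Characters

variable {I W Y : Type} [Fintype I] [DecidableEq I] [Group W] [Finite W] [Group Y] [Finite Y]
  {M : CoxeterMatrix I} {cs : CoxeterSystem M W} {A : I → I → ℤ} {h : IsCartan M A} {p : ℕ} {T : Subgroup Y}
  {n : I → Y} {X : (I → ℤ) → Subgroup Y} (R : RGD cs h p T n X)

include R

/-- a weight vector in the representation of an irreducible character over `lam` -/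
theorem exists_wt_of_mB {V : Type} [AddCommGroup V] [Module ℂ V] [FiniteDimensional ℂ V] (ρ : Representation ℂ Y V)
    {lam : ↥T →* ℂˣ} (h0 : mB R lam ρ.character ≠ 0) : ∃ v, v ≠ 0 ∧ Wt cs h X ρ lam v := by
  have := Fintype.ofFinite (RGD.B cs h T X)
  rw [mB, finsum_eq_sum_of_fintype] at h0
  obtain ⟨v, h1, h2⟩ := exists_eig (σ := ρ) (infl R lam) (right_ne_zero_of_mul h0)
  exact ⟨v, h1, wt_of_infl R h2⟩

theorem normal_VJ (J : Set I) : ((VJ cs h X J).subgroupOf (PJ cs h T X J)).Normal :=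
  (Subgroup.normal_subgroupOf_iff_le_normalizer VJ_le_PJ).2 (PJ_le_normalizer_VJ R J)

/-- **The constituents of the restriction to `P_J`**: a constituent on which `V_J` acts trivially has a `B`-eigenvector
whose weight is conjugate to `lam`; the weight can be moved by `W_J`. -/
theorem exists_eig_PJ (hG : GG cs h T X = ⊤) {V V' : Type} [AddCommGroup V] [Module ℂ V] [FiniteDimensional ℂ V]
    [AddCommGroup V'] [Module ℂ V'] [FiniteDimensional ℂ V'] {ρ : Representation ℂ Y V} (hρ : ρ.IsIrreducible)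
    {lam : ↥T →* ℂˣ} (h0 : mB R lam ρ.character ≠ 0) {J : Set I} [Fintype (PJ cs h T X J)]
    {σ : Representation ℂ (PJ cs h T X J) V'}
    (hin : classInner σ.character (fun x : PJ cs h T X J => ρ.character x) ≠ 0)
    (hQ : ∀ q : PJ cs h T X J, (q : Y) ∈ VJ cs h X J → ∀ y, σ q y = y) :
    ∃ k ∈ NN cs R.nsys, ∃ ν : ↥T →* ℂˣ, Cj T ν lam k ∧ ∀ (ν' : ↥T →* ℂˣ), ∀ a ∈ NN cs R.nsys, a ∈ PJ cs h T X J →
      Cj T ν' ν a → ∃ y : V', y ≠ 0 ∧ ∀ b : RGD.B cs h T X, σ ⟨b, B_le_PJ b.2⟩ y = ((infl R ν' b : ℂˣ) : ℂ) • y := by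
  obtain ⟨v₀, hv0, hv⟩ := exists_wt_of_mB R ρ h0
  have h1 := Core.classInner_character σ (ρ.comp (PJ cs h T X J).subtype)
  have h2 : finrank ℂ (Representation.IntertwiningMap (ρ.comp (PJ cs h T X J).subtype) σ) ≠ 0 := fun h3 => by
    rw [h3, Nat.cast_zero] at h1
    exact hin h1
  have h3 : Nontrivial (Representation.IntertwiningMap (ρ.comp (PJ cs h T X J).subtype) σ) :=
    Module.nontrivial_of_finrank_pos (Nat.pos_of_ne_zero h2)
  obtain ⟨f, hf⟩ := exists_ne (0 : Representation.IntertwiningMap (ρ.comp (PJ cs h T X J).subtype) σ)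
  have hfi : ∀ a (ha : a ∈ PJ cs h T X J) y, f.toLinearMap (ρ a y) = σ ⟨a, ha⟩ (f.toLinearMap y) := fun a ha y =>
    LinearMap.congr_fun (f.isIntertwining' ⟨a, ha⟩) y
  have hN : LinearMap.ker f.toLinearMap ≠ ⊤ := fun h4 => hf (by
    ext1
    exact LinearMap.ker_eq_top.1 h4)
  have hP : ∀ a ∈ PJ cs h T X J, ∀ y ∈ LinearMap.ker f.toLinearMap, ρ a y ∈ LinearMap.ker f.toLinearMap :=
    fun a ha y hy => by rw [LinearMap.mem_ker, hfi a ha, LinearMap.mem_ker.1 hy, map_zero]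
  obtain ⟨k, hk, ν, v, h4, h5, h6⟩ := exists_wt R hG hρ hv0 hv hN hP fun q hq y => by
    rw [LinearMap.mem_ker, map_sub, hfi q (VJ_le_PJ hq), hQ _ hq, sub_self]
  refine ⟨k, hk, ν, h4, fun ν' a ha haP hc => ?_⟩
  obtain ⟨v', h7, h8⟩ := move R hP h5 h6 ha haP hc
  exact ⟨f.toLinearMap v', h8, fun b => by rw [← hfi, h7.infl R b, map_smul]⟩

omit R in
theorem cj_one (ν : ↥T →* ℂˣ) : Cj T ν ν 1 := fun t ht ht' => by
  congr 2
  group

theorem infl_conj (ν : ↥T →* ℂˣ) {b t : Y} (hb : b ∈ RGD.B cs h T X) (ht : t ∈ T)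
    (h1 : b * t * b⁻¹ ∈ RGD.B cs h T X) : infl R ν ⟨b * t * b⁻¹, h1⟩ = ν ⟨t, ht⟩ := by
  have e1 : (⟨b * t * b⁻¹, h1⟩ : RGD.B cs h T X) = ⟨b, hb⟩ * ⟨t, RGD.T_le_B ht⟩ * (⟨b, hb⟩ : RGD.B cs h T X)⁻¹ := rfl
  rw [e1, map_mul, map_mul, map_inv, mul_right_comm, mul_inv_cancel, one_mul, infl_T R ν ht]

variable {R}

theorem In.mu_eq {J : Set I} {μ : ↥(PJ cs h T X J) →* ℂˣ} {lam : ↥T →* ℂˣ} {D : Subgroup Y} (H : In R J μ lam D)
    (b : RGD.B cs h T X) : μ ⟨b, B_le_PJ b.2⟩ = infl R lam b := by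
  obtain ⟨t, ht, u, hu, e⟩ := R.mem_B.1 b.2
  have e1 : b = ⟨t, RGD.T_le_B ht⟩ * ⟨u, RGD.U_le_B hu⟩ := Subtype.ext e
  have e2 : (⟨b, B_le_PJ b.2⟩ : PJ cs h T X J) =
      ⟨t, B_le_PJ (RGD.T_le_B ht)⟩ * ⟨u, B_le_PJ (RGD.U_le_B hu)⟩ := Subtype.ext e
  rw [e2, map_mul, H.muT t ht, H.muU u hu, e1, map_mul, infl_T R lam ht, infl_U R lam hu]

/-- the congruence for one constituent -/
theorem In.ev_irr {J : Set I} {μ : ↥(PJ cs h T X J) →* ℂˣ} {lam : ↥T →* ℂˣ} {D : Subgroup Y} (H : In R J μ lam D)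
    (hG : GG cs h T X = ⊤) (hrat : RatB (RGD.B cs h T X) (PJ cs h T X J)) {θ : Y → ℂ} (hθ : IsIrrCharacter Y θ)
    (h0 : mB R lam θ ≠ 0) [Fintype (PJ cs h T X J)] {χ : PJ cs h T X J → ℂ} (hχ : IsIrrCharacter _ χ)
    (hin : classInner χ (fun x : PJ cs h T X J => θ x) ≠ 0) (g : PJ cs h T X J) {e : ℕ} (he : g ^ 2 ^ e = 1)
    (hg : ∀ d ∈ D, d * (g : Y) = g * d) : Ev (χ g - μ g * χ 1) := by
  obtain ⟨m, ρ, hρ, rfl⟩ := hθ
  have hχ' := hχ
  obtain ⟨k, σ, hσ, rfl⟩ := hχ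
  have hD : IsPGroup 2 (D.subgroupOf (PJ cs h T X J)) := H.two.comap_subtype
  have hg' : ∀ d ∈ D.subgroupOf (PJ cs h T X J), d * g = g * d := fun d hd => Subtype.ext (hg d hd)
  have fin : (∀ x, (∀ d ∈ D.subgroupOf (PJ cs h T X J), d * x = x * d) → Ev (σ.character x)) →
      Ev (σ.character g - μ g * σ.character 1) := fun h1 =>
    (h1 g hg').sub ((h1 1 fun d _ => by rw [mul_one, one_mul]).mul_left (isIntegral_hom μ g))
  have := normal_VJ R J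
  rcases triv_or_ev hσ ((VJ cs h X J).subgroupOf (PJ cs h T X J)) hD (fun v hv hc => Subtype.ext
    (H.cV v hv fun d hd => congrArg Subtype.val (hc ⟨d, H.le hd⟩ hd))) with h1 | h1
  swap
  · exact fin h1
  obtain ⟨c, hc, ν, h2, h3⟩ := exists_eig_PJ R hG hρ h0 hin h1
  rcases H.wt ν c hc h2 with rfl | ⟨ν', a, K, ha, haP, h4, hBK, h5, h6⟩
  · obtain ⟨y, hy0, hy⟩ := h3 ν 1 (one_mem _) (one_mem _) (cj_one ν)
    have hψ := CharactersDeep.ExtUnique.isIrr_mul_hom hχ' μ⁻¹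
    have := Fintype.ofFinite (RGD.B cs h T X)
    have h7 := hrat B_le_PJ _ hψ (by
      let i : RGD.B cs h T X →* PJ cs h T X J := Subgroup.inclusion B_le_PJ
      have := Fintype.ofFinite (⊤ : Subgroup (RGD.B cs h T X))
      have h8 := sum_ne_zero (σ := σ.comp i) ((infl R ν).comp (⊤ : Subgroup (RGD.B cs h T X)).subtype) hy0
        fun u => hy u
      rw [finsum_eq_sum_of_fintype]
      refine fun h9 => h8 (Eq.trans ?_ h9)
      refine Fintype.sum_equiv Subgroup.topEquiv.toEquiv _ _ fun u => ?_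
      rw [mul_comm, MonoidHom.inv_apply, H.mu_eq]
      rfl)
    have h8 := (ev_sub_one (Core.isIrr_isCharacter hψ) he fun s => h7 s g).mul_left (isIntegral_hom μ g)
    rwa [MonoidHom.inv_apply, map_one, Units.val_one, mul_one, mul_sub, mul_left_comm, Units.mul_inv, mul_one] at h8
  · obtain ⟨y, hy0, hy⟩ := h3 ν' a ha haP h4
    let i : (RGD.B cs h T X).subgroupOf (PJ cs h T X J) →* RGD.B cs h T X :=
      (Subgroup.subgroupOfEquivOfLe B_le_PJ).toMonoidHom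
    refine fin fun x hx => ev_of_ind hσ (B := (RGD.B cs h T X).subgroupOf (PJ cs h T X J))
      (H := K.subgroupOf (PJ cs h T X J)) (fun _ hb => hBK hb) ((infl R ν').comp i) hy0 (fun b => hy (i b))
      (fun z hz => ?_) hD (fun z => ?_) hx
    · obtain ⟨w, -, b₁, hb₁, c, hc, b₂, hb₂, e⟩ := (mem_PJ_iff_cell R).1 z.2
      have hcP : c ∈ PJ cs h T X J := by
        have e1 : c = b₁⁻¹ * z * b₂⁻¹ := by rw [e]; group
        rw [e1]
        exact mul_mem (mul_mem (inv_mem (B_le_PJ hb₁)) z.2) (inv_mem (B_le_PJ hb₂))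
      have h7 : ¬ Cj T ν' ν' c := fun h7 => hz (by
        rw [Subgroup.mem_subgroupOf, e]
        exact mul_mem (mul_mem (hBK hb₁) (h6 c ⟨w, hc⟩ hcP h7)) (hBK hb₂))
      unfold Cj at h7
      push Not at h7
      obtain ⟨t, ht, ht', hne⟩ := h7
      have h8 : b₁ * t * b₁⁻¹ ∈ RGD.B cs h T X := mul_mem (mul_mem hb₁ (RGD.T_le_B ht)) (inv_mem hb₁)
      have e2 : (z : Y)⁻¹ * (b₁ * t * b₁⁻¹) * z = b₂⁻¹ * (c⁻¹ * t * c) * b₂⁻¹⁻¹ := by rw [e]; group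
      have h9 : b₂⁻¹ * (c⁻¹ * t * c) * b₂⁻¹⁻¹ ∈ RGD.B cs h T X :=
        mul_mem (mul_mem (inv_mem hb₂) (RGD.T_le_B ht')) (inv_mem (inv_mem hb₂))
      refine ⟨⟨_, B_le_PJ h8⟩, h8, (show (z : Y)⁻¹ * (b₁ * t * b₁⁻¹) * z ∈ _ from e2 ▸ h9), fun h10 => hne ?_⟩
      rw [← infl_conj R ν' hb₁ ht h8, ← infl_conj R ν' (inv_mem hb₂) ht' h9]
      refine Eq.trans h10 (congrArg (infl R ν') (Subtype.ext e2))
    · obtain ⟨d, hd, hne⟩ := h5 z z.2
      exact ⟨⟨d, H.le hd⟩, hd, hne⟩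

omit R in
/-- **LEV** -/
theorem lev : LEV := by
  intro I W Y _ _ _ _ _ _ M cs A h p T n X R J μ lam D _ _ hG H hrat θ hθ h0 g hg e he hc
  have := Fintype.ofFinite (PJ cs h T X J)
  have := Core.finite_irr (G := PJ cs h T X J)
  have := Fintype.ofFinite (IrrCharacter (PJ cs h T X J))
  obtain ⟨m, hm⟩ := Core.exists_nat_comb (Core.isCharacter_comp (PJ cs h T X J).subtype (Core.isIrr_isCharacter hθ))
  have h1 : θ g - μ ⟨g, hg⟩ * θ 1 = ∑ ψ : IrrCharacter (PJ cs h T X J),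
      m ψ * (ψ.1 ⟨g, hg⟩ - μ ⟨g, hg⟩ * ψ.1 1) := by
    have h2 : θ g = _ := congrFun hm ⟨g, hg⟩
    have h3 : θ 1 = _ := congrFun hm 1
    rw [h2, h3, Finset.sum_apply, Finset.sum_apply, Finset.mul_sum, ← Finset.sum_sub_distrib]
    refine Finset.sum_congr rfl fun ψ _ => ?_
    rw [Pi.smul_apply, Pi.smul_apply, nsmul_eq_mul, nsmul_eq_mul]
    ring
  rw [h1]
  refine Ev.sum _ fun ψ _ => ?_
  by_cases h2 : m ψ = 0
  · rw [h2, Nat.cast_zero, zero_mul]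
    exact Ev.zero
  refine Ev.mul_left (isIntegral_nat _) (H.ev_irr hG hrat hθ h0 ψ.2 ?_ ⟨g, hg⟩ (Subtype.ext he) hc)
  have h3 := Core.classInner_sum_nsmul_irr m ψ
  rw [← hm] at h3
  rw [← Core.classInner_conj_symm, map_ne_zero]
  exact fun h4 => h2 (by exact_mod_cast h3.symm.trans h4)

omit R in
/-- **LEV**, the form for `QA` -/
theorem levq : LEVQ := by
  intro I W Y _ _ _ _ _ _ M cs A h p T n X R J μ lam D hp hp2 hG H hrat θ hθ hodd h0 g hg e he hc h2 s hs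
  have h1 := lev R J μ lam D hp hp2 hG H hrat θ hθ h0 g hg e he hc
  obtain ⟨d, hd⟩ := Core.isCharacter_apply_one (Core.isIrr_isCharacter hθ)
  have hd' : charDegree θ = d := by
    unfold charDegree
    rw [hd]
    simp
  obtain ⟨k, hk⟩ := hodd
  have h3 : θ g - μ ⟨g, hg⟩ = θ g - μ ⟨g, hg⟩ * θ 1 + 2 * (k * μ ⟨g, hg⟩) := by
    rw [hd, ← hd', hk]
    push_cast
    ring
  refine not_fix (e := e) (ω := μ ⟨g, hg⟩) ?_ ?_
    (char_mem_cyc (Core.isIrr_isCharacter hθ) (pow_ne_zero e two_ne_zero) he) ?_ hs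
  · rw [← Units.val_pow_eq_pow_val, ← map_pow, show (⟨g, hg⟩ : PJ cs h T X J) ^ 2 ^ e = 1 from Subtype.ext he, map_one,
      Units.val_one]
  · rw [← Units.val_pow_eq_pow_val]
    exact fun h4 => h2 (Units.ext h4)
  · rw [h3]
    exact h1.add (ev_two_mul ((isIntegral_nat k).mul (isIntegral_hom μ _)))

end Cfsg.Agent.ODD.Lev
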